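import Cfsg.Agent.SignalizerTwo.Main
import Cfsg.Agent.Signalizer.ConstrainedCores

/-!
# The form used by the applications
-/

set_option autoImplicit false

universe u

namespace Cfsg.Agent.SignalizerTwo

theorem twoSFTProp : Cfsg.Agent.Signalizer.ConstrainedCores.TwoSFTProp.{u} := by
  intro G _ _ A hcomm hexp hrank θ hC hp hinv hsolv hbal
  have hA : Cfsg.IsElementaryAbelian 2 A :=
    ⟨⟨⟨fun a b => Subtype.ext (hcomm a a.2 b b.2)⟩⟩, hexp⟩
  have h := complete_iSup hA (by simpa using hrank)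
    (⟨⟨hC, hp, hinv, hbal⟩, hsolv⟩ : Cfsg.IsSolvableSignalizerFunctor 2 A θ)
  exact ⟨h.1.2.1, h.2⟩

end Cfsg.Agent.SignalizerTwo
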